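import Mathlib.CategoryTheory.Abelian.Refinements
import Mathlib.CategoryTheory.Subobject.Limits

/-!
# Generalised elements of subobjects in abelian categories

`P.Factors x` for `x : T ⟶ A` is read as `x ∈ P`; membership is local for epimorphisms.
-/

set_option autoImplicit false
universe v u

namespace K992.Refine

open CategoryTheory CategoryTheory.Limits

variable {V : Type u} [Category.{v} V] [Abelian V]

lemma factors_iff_comp_cokernel {A T : V} (P : Subobject A) (x : T ⟶ A) :
    P.Factors x ↔ x ≫ cokernel.π P.arrow = 0 := by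
  constructor
  · intro h
    rw [← Subobject.factorThru_arrow P x h, Category.assoc, cokernel.condition, comp_zero]
  · intro h
    have hex : (ShortComplex.mk P.arrow (cokernel.π P.arrow) (cokernel.condition _)).Exact :=
      ShortComplex.exact_of_g_is_cokernel _ (cokernelIsCokernel _)
    have : hex.lift x h ≫ P.arrow = x := hex.lift_f x h
    rw [← this]
    exact Subobject.factors_comp_arrow _

/-- membership is local for epimorphisms. -/
lemma factors_of_epi {A T T' : V} (P : Subobject A) (π : T' ⟶ T) [Epi π] (x : T ⟶ A)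
    (h : P.Factors (π ≫ x)) : P.Factors x := by
  rw [factors_iff_comp_cokernel] at h ⊢
  rw [Category.assoc] at h
  exact zero_of_epi_comp π h

lemma factors_imageSubobject {A B T : V} (f : B ⟶ A) (x : T ⟶ A) :
    (imageSubobject f).Factors x ↔
      ∃ (T' : V) (π : T' ⟶ T) (_ : Epi π) (y : T' ⟶ B), π ≫ x = y ≫ f := by
  constructor
  · intro h
    obtain ⟨T', π, hπ, y, hy⟩ := surjective_up_to_refinements_of_epi (factorThruImageSubobject f)
      ((imageSubobject f).factorThru x h)
    refine ⟨T', π, hπ, y, ?_⟩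
    rw [← imageSubobject_arrow_comp f, ← Category.assoc, ← hy, Category.assoc,
      Subobject.factorThru_arrow]
  · rintro ⟨T', π, hπ, y, hy⟩
    apply factors_of_epi _ π
    rw [hy]
    exact imageSubobject_factors_comp_self f y

omit [Abelian V] in
lemma le_iff {A : V} (P Q : Subobject A) :
    P ≤ Q ↔ ∀ (T : V) (x : T ⟶ A), P.Factors x → Q.Factors x := by
  constructor
  · intro h T x hx
    exact Subobject.factors_of_le x h hx
  · intro h
    exact Subobject.le_of_factors (h _ P.arrow (Subobject.factors_self P))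

lemma imageSubobject_le_iff {A B : V} (f : B ⟶ A) (P : Subobject A) :
    imageSubobject f ≤ P ↔ P.Factors f := by
  constructor
  · intro h
    apply Subobject.factors_of_le f h
    simpa using imageSubobject_factors_comp_self f (𝟙 B)
  · intro h
    exact imageSubobject_le f (P.factorThru f h) (Subobject.factorThru_arrow _ _ h)

lemma factors_sub {A T : V} {P : Subobject A} {x y : T ⟶ A} (hx : P.Factors x)
    (hy : P.Factors y) : P.Factors (x - y) := by
  rw [factors_iff_comp_cokernel] at *
  rw [Preadditive.sub_comp, hx, hy, sub_zero]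

lemma factors_add {A T : V} {P : Subobject A} {x y : T ⟶ A} (hx : P.Factors x)
    (hy : P.Factors y) : P.Factors (x + y) := by
  rw [factors_iff_comp_cokernel] at *
  rw [Preadditive.add_comp, hx, hy, add_zero]

lemma factors_nsmul {A T : V} {P : Subobject A} {x : T ⟶ A} (hx : P.Factors x) (n : ℕ) :
    P.Factors (n • x) := by
  rw [factors_iff_comp_cokernel] at *
  rw [Preadditive.nsmul_comp, hx, smul_zero]

lemma factors_zsmul {A T : V} {P : Subobject A} {x : T ⟶ A} (hx : P.Factors x) (n : ℤ) :
    P.Factors (n • x) := by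
  rw [factors_iff_comp_cokernel] at *
  rw [Preadditive.zsmul_comp, hx, smul_zero]

lemma factors_neg {A T : V} {P : Subobject A} {x : T ⟶ A} (hx : P.Factors x) :
    P.Factors (-x) := by
  rw [factors_iff_comp_cokernel] at *
  rw [Preadditive.neg_comp, hx, neg_zero]

lemma comp_nsmul_id {A T : V} (x : T ⟶ A) (n : ℕ) : x ≫ (n • 𝟙 A) = n • x := by
  rw [Preadditive.comp_nsmul, Category.comp_id]

/-- `x ∈ n A` iff locally `x = n y`. -/
lemma factors_image_nsmul {A T : V} (n : ℕ) (x : T ⟶ A) :
    (imageSubobject (n • 𝟙 A)).Factors x ↔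
      ∃ (T' : V) (π : T' ⟶ T) (_ : Epi π) (y : T' ⟶ A), π ≫ x = n • y := by
  rw [factors_imageSubobject]
  simp only [comp_nsmul_id]

lemma factors_image_nsmul_self {A T : V} (n : ℕ) (x : T ⟶ A) :
    (imageSubobject (n • 𝟙 A)).Factors (n • x) :=
  (factors_image_nsmul n _).2 ⟨T, 𝟙 T, inferInstance, x, Category.id_comp _⟩

/-- `n` is epi on `P` iff each `x ∈ P` is locally `n y` with `y ∈ P`. -/
lemma epi_nsmul_iff {A : V} (P : Subobject A) (n : ℕ) :
    Epi (n • 𝟙 (P : V)) ↔ ∀ (T : V) (x : T ⟶ A), P.Factors x →
      ∃ (T' : V) (π : T' ⟶ T) (_ : Epi π) (y : T' ⟶ A), P.Factors y ∧ π ≫ x = n • y := by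
  constructor
  · intro h T x hx
    obtain ⟨T', π, hπ, y, hy⟩ := surjective_up_to_refinements_of_epi (n • 𝟙 (P : V))
      (P.factorThru x hx)
    refine ⟨T', π, hπ, y ≫ P.arrow, Subobject.factors_comp_arrow _, ?_⟩
    rw [comp_nsmul_id] at hy
    rw [← Preadditive.nsmul_comp, ← hy, Category.assoc, Subobject.factorThru_arrow]
  · intro h
    rw [epi_iff_surjective_up_to_refinements]
    intro T y
    obtain ⟨T', π, hπ, z, hz, e⟩ := h T (y ≫ P.arrow) (Subobject.factors_comp_arrow _)
    refine ⟨T', π, hπ, P.factorThru z hz, ?_⟩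
    rw [← cancel_mono P.arrow, comp_nsmul_id, Preadditive.nsmul_comp, Subobject.factorThru_arrow,
      Category.assoc, e]

end K992.Refine
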