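import Mathlib.CategoryTheory.Abelian.Indization
import Mathlib.CategoryTheory.Abelian.GrothendieckAxioms.Indization
import Mathlib.CategoryTheory.Subobject.ArtinianObject
import Groth.Agent.IndCof.K992.Refine

/-!
# The category of ind-objects of a small abelian category

Objects of `C` are compact in `Ind C`, are closed under kernels, cokernels and extensions, and
epimorphisms onto them can be refined by epimorphisms in `C`.
-/

set_option autoImplicit false
universe v u

namespace K992.IndB

open CategoryTheory CategoryTheory.Limits Opposite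
open K992.Refine

section Compact

variable {C : Type v} [SmallCategory C]

/-- Morphisms from a representable in `Ind C` are the sections of the presheaf. -/
noncomputable def homIso (X : C) :
    coyoneda.obj (op (Ind.yoneda.obj X : Ind C)) ≅
      Ind.inclusion C ⋙ (evaluation _ _).obj (op X) :=
  NatIso.ofComponents (fun A =>
    (((Ind.inclusion.fullyFaithful (C := C)).homEquiv (X := Ind.yoneda.obj X) (Y := A)).trans
      (((Ind.yonedaCompInclusion (C := C)).app X).homCongr (Iso.refl _))).trans
      (yonedaEquiv (X := X) (F := (Ind.inclusion C).obj A)) |>.toIso)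
    (by
      intro A B f
      ext g
      simp [Functor.FullyFaithful.homEquiv, yonedaEquiv_apply]
      )

instance preservesFiltered (X : C) {J : Type v} [SmallCategory J] [IsFiltered J] :
    PreservesColimitsOfShape J (coyoneda.obj (op (Ind.yoneda.obj X : Ind C))) :=
  preservesColimitsOfShape_of_natIso (homIso X).symm

variable {J : Type v} [SmallCategory J] [IsFiltered J]

lemma exists_lift (X : C) {D : J ⥤ Ind C} {c : Cocone D} (hc : IsColimit c)
    (x : Ind.yoneda.obj X ⟶ c.pt) : ∃ (j : J) (y : Ind.yoneda.obj X ⟶ D.obj j),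
      y ≫ c.ι.app j = x := by
  have hc' := isColimitOfPreserves (coyoneda.obj (op (Ind.yoneda.obj X : Ind C))) hc
  obtain ⟨j, y, hy⟩ := Types.jointly_surjective _ hc' x
  exact ⟨j, y, hy⟩

lemma exists_eq (X : C) {D : J ⥤ Ind C} {c : Cocone D} (hc : IsColimit c) {j : J}
    (x y : Ind.yoneda.obj X ⟶ D.obj j) (h : x ≫ c.ι.app j = y ≫ c.ι.app j) :
    ∃ (k : J) (f : j ⟶ k), x ≫ D.map f = y ≫ D.map f := by
  have hc' := isColimitOfPreserves (coyoneda.obj (op (Ind.yoneda.obj X : Ind C))) hc
  obtain ⟨k, f, hk⟩ := (Types.FilteredColimit.isColimit_eq_iff' hc' x y).1 h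
  exact ⟨k, f, hk⟩

end Compact

section Abelian

variable {C : Type v} [SmallCategory C] [Abelian C]

instance yoneda_additive : (Ind.yoneda (C := C)).Additive :=
  Functor.additive_of_preserves_binary_products _

/-- Refinement of epimorphisms onto objects of `C`. -/
lemma exists_epi_lift {P : Ind C} {X : C} (e : P ⟶ Ind.yoneda.obj X) [Epi e] :
    ∃ (X' : C) (π : X' ⟶ X) (_ : Epi π) (x : Ind.yoneda.obj X' ⟶ P),
      Ind.yoneda.map π = x ≫ e := by
  let F := P.presentation.F
  let c : Cocone (F ⋙ Ind.yoneda) := colimit.cocone (F ⋙ Ind.yoneda)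
  let u : ∀ i, Ind.yoneda.obj (F.obj i) ⟶ P :=
    fun i => colimit.ι (F ⋙ Ind.yoneda) i ≫ (Ind.colimitPresentationCompYoneda P).hom
  have hu : ∀ {i j} (f : i ⟶ j), Ind.yoneda.map (F.map f) ≫ u j = u i := by
    intro i j f
    simp only [u, ← Category.assoc]
    congr 1
    exact colimit.w (F ⋙ Ind.yoneda) f
  have hext : ∀ {Z : Ind C} (a b : P ⟶ Z), (∀ i, u i ≫ a = u i ≫ b) → a = b := by
    intro Z a b h
    rw [← cancel_epi (Ind.colimitPresentationCompYoneda P).hom]
    apply colimit.hom_ext
    intro i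
    simpa [u] using h i
  let g : ∀ i, F.obj i ⟶ X := fun i => Ind.yoneda.preimage (u i ≫ e)
  have hg : ∀ i, Ind.yoneda.map (g i) = u i ≫ e := fun i => Ind.yoneda.map_preimage _
  have hgn : ∀ {i j} (f : i ⟶ j), F.map f ≫ g j = g i := by
    intro i j f
    apply Ind.yoneda.map_injective
    rw [Functor.map_comp, hg, hg, ← Category.assoc, hu]
  let Q : P.presentation.I ⥤ C :=
    { obj := fun i => cokernel (g i)
      map := fun {i j} f => cokernel.map (g i) (g j) (F.map f) (𝟙 X) (by rw [hgn, Category.comp_id])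
      map_id := by
        intro i
        apply (cancel_epi (cokernel.π _)).1
        simp
      map_comp := by
        intro i j k f f'
        apply (cancel_epi (cokernel.π _)).1
        simp }
  have hQ : ∀ {i j} (f : i ⟶ j), cokernel.π (g i) ≫ Q.map f = cokernel.π (g j) := by
    intro i j f
    simp [Q]
  let t : ∀ i, Ind.yoneda.obj X ⟶ colimit (Q ⋙ Ind.yoneda) := fun i =>
    Ind.yoneda.map (cokernel.π (g i)) ≫ colimit.ι (Q ⋙ Ind.yoneda) i
  have ht : ∀ {i j} (f : i ⟶ j), t i = t j := by
    intro i j f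
    simp only [t]
    rw [← hQ f, Functor.map_comp, Category.assoc]
    congr 1
    exact (colimit.w (Q ⋙ Ind.yoneda) f).symm
  have ht0 : ∀ i, e ≫ t i = 0 := by
    intro i
    apply hext
    intro j
    obtain ⟨k, f, f', -⟩ : ∃ (k : _) (f : i ⟶ k) (f' : j ⟶ k), True :=
      ⟨IsFiltered.max i j, IsFiltered.leftToMax i j, IsFiltered.rightToMax i j, trivial⟩
    rw [comp_zero, ht f, ← hu f', Category.assoc, ← Category.assoc (u k), ← hg]
    simp only [t]
    rw [← Category.assoc (Ind.yoneda.map (g k)), ← Functor.map_comp, cokernel.condition,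
      Functor.map_zero, zero_comp, comp_zero]
  obtain ⟨i⟩ : Nonempty P.presentation.I := IsFiltered.nonempty
  have h1 : t i = 0 := zero_of_epi_comp e (ht0 i)
  obtain ⟨k, f, hk⟩ := exists_eq X (colimit.isColimit (Q ⋙ Ind.yoneda))
    (Ind.yoneda.map (cokernel.π (g i))) 0 (by rw [zero_comp]; exact h1)
  have h2 : cokernel.π (g k) = 0 := by
    apply Ind.yoneda.map_injective
    rw [← hQ f, Functor.map_comp, Functor.map_zero]
    exact hk.trans zero_comp
  have : Epi (g k) := Preadditive.epi_of_cokernel_zero h2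
  exact ⟨F.obj k, g k, this, u k, hg k⟩

/-- Every epimorphism can be lifted up to refinement in `C`. -/
lemma exists_lift_of_epi {A B : Ind C} (f : A ⟶ B) [Epi f] {X : C} (y : Ind.yoneda.obj X ⟶ B) :
    ∃ (X' : C) (π : X' ⟶ X) (_ : Epi π) (x : Ind.yoneda.obj X' ⟶ A),
      Ind.yoneda.map π ≫ y = x ≫ f := by
  obtain ⟨X', π, hπ, x, hx⟩ := exists_epi_lift (pullback.fst y f)
  refine ⟨X', π, hπ, x ≫ pullback.snd y f, ?_⟩
  rw [hx, Category.assoc, Category.assoc, pullback.condition]

omit [Abelian C] in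
lemma hom_ext_yoneda {A B : Ind C} {f g : A ⟶ B}
    (h : ∀ (X : C) (x : Ind.yoneda.obj X ⟶ A), x ≫ f = x ≫ g) : f = g := by
  apply Ind.isSeparating_range_yoneda
  rintro _ ⟨X⟩ x
  exact h X x

lemma epi_iff {A B : Ind C} (f : A ⟶ B) :
    Epi f ↔ ∀ (X : C) (y : Ind.yoneda.obj X ⟶ B), ∃ (X' : C) (π : X' ⟶ X) (_ : Epi π)
      (x : Ind.yoneda.obj X' ⟶ A), Ind.yoneda.map π ≫ y = x ≫ f := by
  constructor
  · intro _ X y
    exact exists_lift_of_epi f y
  · intro h
    apply Preadditive.epi_of_cokernel_zero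
    apply hom_ext_yoneda
    intro X y
    obtain ⟨X', π, hπ, x, hx⟩ := h X y
    rw [comp_zero]
    apply zero_of_epi_comp (Ind.yoneda.map π)
    rw [← Category.assoc, hx, Category.assoc, cokernel.condition, comp_zero]

lemma mono_iff {A B : Ind C} (f : A ⟶ B) :
    Mono f ↔ ∀ (X : C) (x : Ind.yoneda.obj X ⟶ A), x ≫ f = 0 → x = 0 := by
  constructor
  · intro _ X x h
    exact zero_of_comp_mono f h
  · intro h
    apply Preadditive.mono_of_kernel_zero
    apply hom_ext_yoneda
    intro X x
    rw [comp_zero]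
    apply h
    rw [Category.assoc, kernel.condition, comp_zero]

/-- Comparison of subobjects on elements with source in `C`. -/
lemma le_iff_yoneda {A : Ind C} (P Q : Subobject A) :
    P ≤ Q ↔ ∀ (X : C) (x : Ind.yoneda.obj X ⟶ A), P.Factors x → Q.Factors x := by
  constructor
  · intro h X x hx
    exact Subobject.factors_of_le x h hx
  · intro h
    apply Subobject.le_of_factors
    rw [factors_iff_comp_cokernel]
    apply hom_ext_yoneda
    intro X x
    rw [comp_zero, ← Category.assoc, ← factors_iff_comp_cokernel]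
    exact h X _ (Subobject.factors_comp_arrow _)

lemma factors_imageSubobject_yoneda {A B : Ind C} (f : B ⟶ A) {X : C}
    (x : Ind.yoneda.obj X ⟶ A) :
    (imageSubobject f).Factors x ↔
      ∃ (X' : C) (π : X' ⟶ X) (_ : Epi π) (y : Ind.yoneda.obj X' ⟶ B),
        Ind.yoneda.map π ≫ x = y ≫ f := by
  constructor
  · intro h
    obtain ⟨T', π, hπ, y, hy⟩ := exists_lift_of_epi (factorThruImageSubobject f)
      ((imageSubobject f).factorThru x h)
    refine ⟨T', π, hπ, y, ?_⟩
    rw [← imageSubobject_arrow_comp f, ← Category.assoc, ← hy, Category.assoc,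
      Subobject.factorThru_arrow]
  · rintro ⟨T', π, hπ, y, hy⟩
    exact (factors_imageSubobject f x).2 ⟨_, Ind.yoneda.map π, inferInstance, y, hy⟩

/-- Exactness on elements with source in `C`. -/
lemma exact_iff_yoneda (S : ShortComplex (Ind C)) :
    S.Exact ↔ ∀ (X : C) (x : Ind.yoneda.obj X ⟶ S.X₂), x ≫ S.g = 0 →
      ∃ (X' : C) (π : X' ⟶ X) (_ : Epi π) (y : Ind.yoneda.obj X' ⟶ S.X₁),
        Ind.yoneda.map π ≫ x = y ≫ S.f := by
  rw [S.exact_iff_epi_toCycles, epi_iff]
  constructor
  · intro hS X a ha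
    obtain ⟨A', π, hπ, x₁, fac⟩ := hS X (S.liftCycles a ha)
    exact ⟨A', π, hπ, x₁, by
      simpa only [Category.assoc, ShortComplex.liftCycles_i, ShortComplex.toCycles_i] using
        fac =≫ S.iCycles⟩
  · intro hS A a
    obtain ⟨A', π, hπ, x₁, fac⟩ := hS A (a ≫ S.iCycles) (by simp)
    exact ⟨A', π, hπ, x₁, by
      simp only [← cancel_mono S.iCycles, Category.assoc, ShortComplex.toCycles_i, fac]⟩

end Abelian

end K992.IndB
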