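import Groth.Agent.IndCof.K992.IndPrimary

/-!
# Infima of subobjects, divisible parts and descending chains in ind-objects of cofinite type
-/

set_option autoImplicit false
universe v u

namespace K992.IndD

open CategoryTheory CategoryTheory.Limits Opposite ZeroObject
open K992.Refine K992.IndB K992.IndC K992.IndM K992.IndS K992.IndP

variable {C : Type v} [SmallCategory C] [Abelian C]

/-- the infimum of a family of subobjects, on elements. -/
lemma factors_iInf {ι : Type} {A T : Ind C} (P : ι → Subobject A) (x : T ⟶ A) :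
    (⨅ i, P i).Factors x ↔ ∀ i, (P i).Factors x := by
  constructor
  · intro h i
    exact Subobject.factors_of_le x (iInf_le P i) h
  · intro h
    rw [← imageSubobject_le_iff]
    exact le_iInf (fun i => (imageSubobject_le_iff _ _).2 (h i))

lemma factors_inf {A T : Ind C} (P Q : Subobject A) (x : T ⟶ A) :
    (P ⊓ Q).Factors x ↔ P.Factors x ∧ Q.Factors x := Subobject.inf_factors x

/-- the `n`-torsion of a subobject -/
lemma mk_kernel_eq {A : Ind C} (P : Subobject A) (n : ℕ) :
    Subobject.mk (kernel.ι (n • 𝟙 (P : Ind C)) ≫ P.arrow) = P ⊓ tors n A := by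
  apply le_antisymm
  · rw [le_iff]
    intro T x hx
    rw [Subobject.mk_factors_iff] at hx
    obtain ⟨y, hy⟩ := hx
    change T ⟶ kernel (n • 𝟙 (P : Ind C)) at y
    change y ≫ kernel.ι (n • 𝟙 (P : Ind C)) ≫ P.arrow = x at hy
    rw [factors_inf, factors_tors, ← hy]
    constructor
    · rw [← Category.assoc]
      exact Subobject.factors_comp_arrow _
    · have h0 : n • kernel.ι (n • 𝟙 (P : Ind C)) = 0 :=
        (comp_nsmul_id _ n).symm.trans (kernel.condition _)
      rw [← Preadditive.comp_nsmul, ← Preadditive.nsmul_comp, h0, zero_comp, comp_zero]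
  · rw [le_iff]
    intro T x hx
    rw [factors_inf, factors_tors] at hx
    rw [Subobject.mk_factors_iff]
    refine ⟨kernel.lift _ (P.factorThru x hx.1) ?_, ?_⟩
    · rw [← cancel_mono P.arrow, comp_nsmul_id, Preadditive.nsmul_comp, Subobject.factorThru_arrow,
        hx.2, zero_comp]
    · change kernel.lift _ (P.factorThru x hx.1) _ ≫ kernel.ι (n • 𝟙 (P : Ind C)) ≫ P.arrow = x
      rw [kernel.lift_ι_assoc, Subobject.factorThru_arrow]

lemma isC_inf_tors_iff {A : Ind C} (P : Subobject A) (n : ℕ) :
    IsC ((P ⊓ tors n A : Subobject A) : Ind C) ↔ IsC (kernel (n • 𝟙 (P : Ind C))) := by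
  rw [← mk_kernel_eq]
  exact IsC.iff_of_iso (Subobject.underlyingIso _)

/-- images are of cofinite type -/
lemma cof_imageSubobject (hart : ∀ X : C, IsArtinianObject X)
    (htor : ∀ X : C, ∃ n : ℕ, 0 < n ∧ n • 𝟙 X = 0) {A B : Ind C} (hA : Cof A) (hB : Cof B)
    (f : A ⟶ B) : Cof ((imageSubobject f : Subobject B) : Ind C) :=
  Cof.of_iso ((Abelian.imageIsoImage f) ≪≫ (imageSubobjectIso f).symm)
    (cof_image hart htor hA hB f)

section Primary

variable (hart : ∀ X : C, IsArtinianObject X) {p : ℕ} (hp : p.Prime)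
  (htorp : ∀ X : C, ∃ n : ℕ, (p ^ n) • 𝟙 X = 0)

include hart hp htorp

/-- The category of ind-objects of cofinite type is Artinian. -/
theorem chain_stabilizes {A : Ind C} (hA : Cof A) (S : ℕ → Subobject A) (hS : Antitone S)
    (hcof : ∀ m, Cof ((S m : Subobject A) : Ind C)) : ∃ N, ∀ m, N ≤ m → S m = S N := by
  have htor := htor_of_primary hp htorp
  -- stabilisation of the `p^k`-torsion
  have h1 : ∀ k : ℕ, ∃ M, ∀ m, M ≤ m → S m ⊓ tors (p ^ k) A = S M ⊓ tors (p ^ k) A := by
    intro k
    exact dcc hart (tors (p ^ k) A) (hA.tors (Nat.pow_pos hp.pos))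
      (fun m => S m ⊓ tors (p ^ k) A) (fun a b hab => inf_le_inf_right _ (hS hab))
      (fun m => inf_le_right)
      (fun m => (isC_inf_tors_iff _ _).2 (hcof m _ (Nat.pow_pos hp.pos)))
  choose M hM using h1
  let Sinf : Subobject A := ⨅ m, S m
  -- an element of `S m` killed by `p^k` lies in `Sinf` for `m ≥ M k`
  have h2 : ∀ (k m : ℕ), M k ≤ m → ∀ (T : Ind C) (x : T ⟶ A), (S m).Factors x →
      p ^ k • x = 0 → Sinf.Factors x := by
    intro k m hm T x hx hpx
    have h3 : (S m ⊓ tors (p ^ k) A).Factors x := by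
      rw [factors_inf, factors_tors]; exact ⟨hx, hpx⟩
    rw [factors_iInf]
    intro m'
    rcases le_total m m' with h | h
    · have h4 : S m' ⊓ tors (p ^ k) A = S m ⊓ tors (p ^ k) A := by
        rw [hM k m' (hm.trans h), hM k m hm]
      rw [← h4, factors_inf] at h3
      exact h3.1
    · exact Subobject.factors_of_le x (hS h) hx
  have h3 : ∀ k, Sinf ⊓ tors (p ^ k) A = S (M k) ⊓ tors (p ^ k) A := by
    intro k
    apply le_antisymm
    · exact inf_le_inf_right _ (iInf_le _ _)
    · rw [le_iff]
      intro T x hx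
      rw [factors_inf, factors_tors] at hx ⊢
      exact ⟨h2 k (M k) le_rfl T x hx.1 hx.2, hx.2⟩
  have h4 : Cof (Sinf : Ind C) := by
    apply cof_of_primary hp htorp
    intro k
    rw [← isC_inf_tors_iff, h3]
    exact (isC_inf_tors_iff _ _).2 (hcof _ _ (Nat.pow_pos hp.pos))
  obtain ⟨N, hN⟩ := exists_decomp_uniform hart htor h4 hp.pos
  -- for `m` large `S m ≤ Sinf`
  have h5 : ∀ (m : ℕ), M (N + 1) ≤ m → ∀ (l : ℕ) (X : C) (x : Ind.yoneda.obj X ⟶ A),
      (S m).Factors x → p ^ l • x = 0 → Sinf.Factors x := by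
    intro m hm l
    induction l with
    | zero =>
      intro X x _ hx
      rw [pow_zero, one_smul] at hx
      rw [hx]
      exact Subobject.factors_zero
    | succ l ih =>
      intro X x hx hx'
      have h6 : Sinf.Factors (p • x) := ih X (p • x) (factors_nsmul hx p) (by
        rw [← mul_smul, ← pow_succ]; exact hx')
      obtain ⟨X', π, hπ, a, b, ha, hab⟩ := hN X (Sinf.factorThru _ h6)
      have h7 := hab =≫ Sinf.arrow
      rw [Category.assoc, Subobject.factorThru_arrow, Preadditive.add_comp,
        Preadditive.nsmul_comp, Preadditive.comp_nsmul] at h7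
      have h8 : Sinf.Factors (Ind.yoneda.map π ≫ x - b ≫ Sinf.arrow) := by
        refine h2 (N + 1) m hm _ _ ?_ ?_
        · exact factors_sub (Subobject.factors_of_factors_right _ hx)
            (Subobject.factors_of_le _ (iInf_le _ m) (Subobject.factors_comp_arrow _))
        · rw [pow_succ, mul_smul, smul_sub, h7, add_sub_cancel_right, ← Preadditive.nsmul_comp, ha,
            zero_comp]
      have h9 : Sinf.Factors (Ind.yoneda.map π ≫ x) := by
        have := factors_add h8 (Subobject.factors_comp_arrow (P := Sinf) b)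
        rwa [sub_add_cancel] at this
      exact factors_of_epi _ _ _ h9
  have h6 : ∀ m, M (N + 1) ≤ m → S m = Sinf := by
    intro m hm
    apply le_antisymm
    · rw [le_iff_yoneda]
      intro X x hx
      obtain ⟨l, hl⟩ := exists_pow_smul_eq_zero htorp x
      exact h5 m hm l X x hx hl
    · exact iInf_le _ _
  exact ⟨M (N + 1), fun m hm => by rw [h6 m hm, h6 _ le_rfl]⟩

end Primary

end K992.IndD
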