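import Groth.Agent.IndCof.K992.IndBasic

/-!
# Closure properties of `C` in `Ind C`
-/

set_option autoImplicit false
universe v u

namespace K992.IndC

open CategoryTheory CategoryTheory.Limits Opposite
open K992.Refine K992.IndB

variable {C : Type v} [SmallCategory C] [Abelian C]

/-- `A` is isomorphic to an object of `C`. -/
abbrev IsC (A : Ind C) : Prop := (Ind.yoneda (C := C)).essImage A

omit [Abelian C] in
lemma IsC.of_iso {A B : Ind C} (e : A ≅ B) (h : IsC A) : IsC B := Functor.essImage.ofIso e h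

omit [Abelian C] in
lemma IsC.iff_of_iso {A B : Ind C} (e : A ≅ B) : IsC A ↔ IsC B :=
  ⟨fun h => h.of_iso e, fun h => IsC.of_iso e.symm h⟩

lemma isC_kernel {A B : Ind C} (hA : IsC A) (hB : IsC B) (f : A ⟶ B) : IsC (kernel f) := by
  obtain ⟨X, ⟨e⟩⟩ := hA
  obtain ⟨Y, ⟨e'⟩⟩ := hB
  let g : X ⟶ Y := Ind.yoneda.preimage (e.hom ≫ f ≫ e'.inv)
  have hg : Ind.yoneda.map g = e.hom ≫ f ≫ e'.inv := Ind.yoneda.map_preimage _
  exact ⟨kernel g, ⟨PreservesKernel.iso Ind.yoneda g ≪≫
    kernel.mapIso (Ind.yoneda.map g) f e e' (by rw [hg]; simp)⟩⟩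

lemma isC_cokernel {A B : Ind C} (hA : IsC A) (hB : IsC B) (f : A ⟶ B) : IsC (cokernel f) := by
  obtain ⟨X, ⟨e⟩⟩ := hA
  obtain ⟨Y, ⟨e'⟩⟩ := hB
  let g : X ⟶ Y := Ind.yoneda.preimage (e.hom ≫ f ≫ e'.inv)
  have hg : Ind.yoneda.map g = e.hom ≫ f ≫ e'.inv := Ind.yoneda.map_preimage _
  exact ⟨cokernel g, ⟨PreservesCokernel.iso Ind.yoneda g ≪≫
    cokernel.mapIso (Ind.yoneda.map g) f e e' (by rw [hg]; simp)⟩⟩

lemma isC_biprod {A B : Ind C} (hA : IsC A) (hB : IsC B) : IsC (A ⊞ B) := by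
  obtain ⟨X, ⟨e⟩⟩ := hA
  obtain ⟨Y, ⟨e'⟩⟩ := hB
  have : PreservesBinaryBiproduct X Y (Ind.yoneda (C := C)) :=
    preservesBinaryBiproduct_of_preservesBiproduct _ _ _
  exact ⟨X ⊞ Y, ⟨Functor.mapBiprod Ind.yoneda X Y ≪≫ biprod.mapIso e e'⟩⟩

/-- a subobject which is the kernel of a morphism between objects of `C`, etc. -/
lemma isC_of_mono_exact {A B D : Ind C} (f : A ⟶ B) (g : B ⟶ D) (w : f ≫ g = 0) [Mono f]
    (h : (ShortComplex.mk f g w).Exact) (hB : IsC B) (hD : IsC D) : IsC A := by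
  have e : A ≅ kernel g := IsLimit.conePointUniqueUpToIso h.fIsKernel (limit.isLimit _)
  exact (isC_kernel hB hD g).of_iso e.symm

lemma isC_of_epi_exact {A B D : Ind C} (f : A ⟶ B) (g : B ⟶ D) (w : f ≫ g = 0) [Epi g]
    (h : (ShortComplex.mk f g w).Exact) (hA : IsC A) (hB : IsC B) : IsC D := by
  have e : D ≅ cokernel f := IsColimit.coconePointUniqueUpToIso h.gIsCokernel (colimit.isColimit _)
  exact (isC_cokernel hA hB f).of_iso e.symm

lemma isC_imageSubobject {A B : Ind C} (hA : IsC A) (hB : IsC B) (f : A ⟶ B) :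
    IsC ((imageSubobject f : Subobject B) : Ind C) := by
  refine isC_of_mono_exact (imageSubobject f).arrow (cokernel.π f) ?_ ?_ hB (isC_cokernel hA hB f)
  · rw [← cancel_epi (factorThruImageSubobject f), ← Category.assoc, imageSubobject_arrow_comp,
      cokernel.condition, comp_zero]
  · rw [ShortComplex.exact_iff_exact_up_to_refinements]
    intro T x hx
    change T ⟶ B at x
    change x ≫ cokernel.π f = 0 at hx
    obtain ⟨T', π, hπ, y, hy⟩ := (CokernelCofork.IsColimit.comp_π_eq_zero_iff_up_to_refinements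
      (cokernelIsCokernel f) x).1 hx
    refine ⟨T', π, hπ, y ≫ factorThruImageSubobject f, ?_⟩
    change π ≫ x = (y ≫ factorThruImageSubobject f) ≫ (imageSubobject f).arrow
    rw [Category.assoc, imageSubobject_arrow_comp]
    exact hy

lemma isC_kernelSubobject_iff {A B : Ind C} (f : A ⟶ B) :
    IsC ((kernelSubobject f : Subobject A) : Ind C) ↔ IsC (kernel f) :=
  IsC.iff_of_iso (kernelSubobjectIso f)

lemma isC_image {A B : Ind C} (hA : IsC A) (hB : IsC B) (f : A ⟶ B) : IsC (image f) :=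
  (isC_imageSubobject hA hB f).of_iso (imageSubobjectIso f)

/-- `C` is closed under extensions in `Ind C`. -/
lemma isC_ext {A B D : Ind C} (f : A ⟶ B) (g : B ⟶ D) (w : f ≫ g = 0) [Mono f] [Epi g]
    (h : (ShortComplex.mk f g w).Exact) (hA : IsC A) (hD : IsC D) : IsC B := by
  obtain ⟨X, ⟨i⟩⟩ := hD
  let e : B ⟶ Ind.yoneda.obj X := g ≫ i.inv
  have hex : (ShortComplex.mk f e (by simp only [e]; rw [reassoc_of% w, zero_comp])).Exact := by
    rw [ShortComplex.exact_iff_exact_up_to_refinements]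
    intro T x hx
    change x ≫ g ≫ i.inv = 0 at hx
    have hx' : x ≫ g = 0 := by
      rw [← cancel_mono i.inv, Category.assoc, hx, zero_comp]
    exact h.exact_up_to_refinements x hx'
  have hfe : f ≫ e = 0 := by simp only [e]; rw [reassoc_of% w, zero_comp]
  obtain ⟨X', π, hπ, x, hx⟩ := exists_epi_lift e
  have hk : (Ind.yoneda.map (kernel.ι π) ≫ x) ≫ e = 0 := by
    rw [Category.assoc, ← hx, ← Functor.map_comp, kernel.condition, Functor.map_zero]
  let k : Ind.yoneda.obj (kernel π) ⟶ A := hex.lift _ hk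
  have hk' : k ≫ f = Ind.yoneda.map (kernel.ι π) ≫ x := hex.lift_f _ hk
  let φ : Ind.yoneda.obj (kernel π) ⟶ A ⊞ Ind.yoneda.obj X' :=
    biprod.lift (-k) (Ind.yoneda.map (kernel.ι π))
  let ψ : A ⊞ Ind.yoneda.obj X' ⟶ B := biprod.desc f x
  have hφψ : φ ≫ ψ = 0 := by
    simp only [φ, ψ, biprod.lift_desc, Preadditive.neg_comp, hk']
    simp
  have hψ : Epi ψ := by
    rw [epi_iff_surjective_up_to_refinements]
    intro T b
    obtain ⟨T', p, hp, c, hc⟩ := surjective_up_to_refinements_of_epi (Ind.yoneda.map π) (b ≫ e)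
    have h0 : (p ≫ b - c ≫ x) ≫ e = 0 := by
      rw [Preadditive.sub_comp, Category.assoc, Category.assoc, hc, ← hx, sub_self]
    refine ⟨T', p, hp, biprod.lift (hex.lift _ h0) c, ?_⟩
    simp only [ψ, biprod.lift_desc]
    have := hex.lift_f _ h0
    change hex.lift _ h0 ≫ f = _ at this
    rw [this]
    simp
  have hexψ : (ShortComplex.mk φ ψ hφψ).Exact := by
    rw [ShortComplex.exact_iff_exact_up_to_refinements]
    intro T z hz
    change T ⟶ A ⊞ Ind.yoneda.obj X' at z
    change z ≫ ψ = 0 at hz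
    have hz' : (z ≫ biprod.fst) ≫ f + (z ≫ biprod.snd) ≫ x = 0 := by
      rw [← hz]
      simp only [ψ, biprod.desc_eq, Preadditive.comp_add, Category.assoc]
    have h1 : (z ≫ biprod.snd) ≫ Ind.yoneda.map π = 0 := by
      have := hz' =≫ e
      simp only [Preadditive.add_comp, Category.assoc, hfe, comp_zero, zero_add,
        zero_comp, ← hx] at this
      rw [Category.assoc]
      exact this
    -- `Ind.yoneda` preserves the kernel
    have hker : IsLimit (KernelFork.ofι (Ind.yoneda.map (kernel.ι π))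
        (by rw [← Functor.map_comp, kernel.condition, Functor.map_zero]) :
          KernelFork (Ind.yoneda.map π)) :=
      isLimitForkMapOfIsLimit' Ind.yoneda (kernel.condition π) (kernelIsKernel π)
    obtain ⟨c, hc⟩ := KernelFork.IsLimit.lift' hker _ h1
    change T ⟶ Ind.yoneda.obj (kernel π) at c
    change c ≫ Ind.yoneda.map (kernel.ι π) = z ≫ biprod.snd at hc
    refine ⟨T, 𝟙 T, inferInstance, c, ?_⟩
    change 𝟙 T ≫ z = c ≫ φ
    rw [Category.id_comp]
    apply biprod.hom_ext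
    · rw [← cancel_mono f]
      simp only [φ, Category.assoc, biprod.lift_fst, Preadditive.comp_neg, Preadditive.neg_comp,
        hk']
      rw [eq_neg_iff_add_eq_zero]
      rw [← hz', ← hc]
      simp only [Category.assoc]
    · simp only [φ, Category.assoc, biprod.lift_snd, hc]
  exact isC_of_epi_exact φ ψ hφψ hexψ ⟨_, ⟨Iso.refl _⟩⟩
    (isC_biprod hA ⟨X', ⟨Iso.refl _⟩⟩)

/-- Descending chains of `C`-subobjects of an object of `C` stabilise. -/
lemma dcc (hart : ∀ X : C, IsArtinianObject X) {A : Ind C} (P : Subobject A) (hP : IsC (P : Ind C))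
    (S : ℕ → Subobject A) (hS : Antitone S) (hSP : ∀ n, S n ≤ P)
    (hSC : ∀ n, IsC ((S n : Subobject A) : Ind C)) : ∃ N, ∀ n, N ≤ n → S n = S N := by
  obtain ⟨X, ⟨i⟩⟩ := hP
  choose Z hZ using hSC
  let j : ∀ n, Ind.yoneda.obj (Z n) ≅ ((S n : Subobject A) : Ind C) := fun n => (hZ n).some
  let s : ∀ n, Z n ⟶ X := fun n =>
    Ind.yoneda.preimage ((j n).hom ≫ (Subobject.ofLE _ _ (hSP n)) ≫ i.inv)
  have hs : ∀ n, Ind.yoneda.map (s n) = (j n).hom ≫ (Subobject.ofLE _ _ (hSP n)) ≫ i.inv :=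
    fun n => Ind.yoneda.map_preimage _
  have hsm : ∀ n, Mono (s n) := by
    intro n
    have : Mono (Ind.yoneda.map (s n)) := by
      rw [hs]
      infer_instance
    exact Ind.yoneda.mono_of_mono_map this
  -- comparison of the `s n` reflects comparison of the `S n`
  have hcmp : ∀ m n, S m ≤ S n ↔ Subobject.mk (s m) ≤ Subobject.mk (s n) := by
    intro m n
    constructor
    · intro h
      let t : Z m ⟶ Z n := Ind.yoneda.preimage ((j m).hom ≫ Subobject.ofLE _ _ h ≫ (j n).inv)
      have ht : Ind.yoneda.map t = (j m).hom ≫ Subobject.ofLE _ _ h ≫ (j n).inv :=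
        Ind.yoneda.map_preimage _
      apply Subobject.mk_le_mk_of_comm t
      apply Ind.yoneda.map_injective
      rw [Functor.map_comp, ht, hs, hs]
      simp only [Category.assoc, Iso.inv_hom_id_assoc]
      rw [← Category.assoc (Subobject.ofLE _ _ h), Subobject.ofLE_comp_ofLE]
    · intro h
      let t : Z m ⟶ Z n := Subobject.ofMkLEMk _ _ h
      have ht : t ≫ s n = s m := Subobject.ofMkLEMk_comp h
      apply Subobject.le_of_comm ((j m).inv ≫ Ind.yoneda.map t ≫ (j n).hom)
      have := congrArg Ind.yoneda.map ht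
      rw [Functor.map_comp, hs, hs] at this
      have h2 : Ind.yoneda.map t ≫ (j n).hom ≫ Subobject.ofLE _ _ (hSP n) =
          (j m).hom ≫ Subobject.ofLE _ _ (hSP m) := by
        rw [← cancel_mono i.inv]
        simpa only [Category.assoc] using this
      have h3 := h2 =≫ P.arrow
      simp only [Category.assoc, Subobject.ofLE_arrow] at h3
      rw [Category.assoc, Category.assoc, h3, Iso.inv_hom_id_assoc]
  have := hart X
  obtain ⟨N, hN⟩ := antitone_chain_condition_of_isArtinianObject (X := X)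
    ⟨fun n => Subobject.mk (s n), fun m n hmn => (hcmp n m).1 (hS hmn)⟩
  refine ⟨N, fun n hn => le_antisymm (hS hn) ?_⟩
  rw [hcmp]
  exact le_of_eq (hN n hn)

end K992.IndC
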