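import Groth.Agent.IndCof.K992.IndChain

/-!
# The divisible part of an ind-object of cofinite type
-/

set_option autoImplicit false
universe v u

namespace K992.IndE

open CategoryTheory CategoryTheory.Limits Opposite ZeroObject
open K992.Refine K992.IndB K992.IndC K992.IndM K992.IndS K992.IndP K992.IndD

section General

variable {V : Type u} [Category.{v} V] [Abelian V]

/-- Bezout with explicit multiplier. -/
lemma exists_zsmul_of_coprime {A T : V} {a b : ℕ} (hab : Nat.Coprime a b) (x : T ⟶ A)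
    (hx : a • x = 0) : ∃ v : ℤ, x = b • (v • x) := by
  have h := Nat.gcd_eq_gcd_ab a b
  rw [Nat.Coprime] at hab
  rw [hab] at h
  refine ⟨Nat.gcdB a b, ?_⟩
  have h1 : ((1 : ℤ)) • x = ((a : ℤ) * Nat.gcdA a b + (b : ℤ) * Nat.gcdB a b) • x := by
    rw [← h]; rfl
  rw [one_smul, add_smul, mul_comm (a : ℤ), mul_smul, natCast_zsmul, hx, smul_zero, zero_add,
    mul_smul, natCast_zsmul] at h1
  exact h1

lemma image_nsmul_le_of_dvd {A : V} {a b : ℕ} (h : a ∣ b) :
    imageSubobject (b • 𝟙 A) ≤ imageSubobject (a • 𝟙 A) := by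
  obtain ⟨c, rfl⟩ := h
  rw [imageSubobject_le_iff, mul_smul]
  exact factors_image_nsmul_self _ _

/-- a divisible subobject is contained in `k A` -/
lemma le_image_of_epi {A : V} (D : Subobject A) (k : ℕ) (h : Epi (k • 𝟙 (D : V))) :
    D ≤ imageSubobject (k • 𝟙 A) := by
  rw [le_iff]
  intro T x hx
  obtain ⟨T', π, hπ, y, hy, e⟩ := (epi_nsmul_iff D k).1 h _ _ hx
  exact factors_of_epi _ π _ (e ▸ factors_image_nsmul_self _ y)

lemma epi_nsmul_mul {A : V} (a b : ℕ) (ha : Epi (a • 𝟙 A)) (hb : Epi (b • 𝟙 A)) :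
    Epi ((a * b) • 𝟙 A) := by
  have : (a * b) • 𝟙 A = (a • 𝟙 A) ≫ (b • 𝟙 A) := by
    rw [comp_nsmul_id, mul_comm, mul_smul]
  rw [this]
  infer_instance

lemma epi_nsmul_left {A : V} (a b : ℕ) (h : Epi ((a * b) • 𝟙 A)) : Epi (a • 𝟙 A) := by
  have : (b • 𝟙 A) ≫ (a • 𝟙 A) = (a * b) • 𝟙 A := by
    rw [comp_nsmul_id, mul_smul]
  exact epi_of_epi_fac this

end General

variable {C : Type v} [SmallCategory C] [Abelian C]

/-- epimorphy of multiplication on a subobject, on elements with source in `C`. -/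
lemma epi_nsmul_iff_yoneda {A : Ind C} (P : Subobject A) (n : ℕ) :
    Epi (n • 𝟙 (P : Ind C)) ↔ ∀ (X : C) (x : Ind.yoneda.obj X ⟶ A), P.Factors x →
      ∃ (X' : C) (π : X' ⟶ X) (_ : Epi π) (y : Ind.yoneda.obj X' ⟶ A),
        P.Factors y ∧ Ind.yoneda.map π ≫ x = n • y := by
  constructor
  · intro h T x hx
    obtain ⟨T', π, hπ, y, hy⟩ := exists_lift_of_epi (n • 𝟙 (P : Ind C)) (P.factorThru x hx)
    refine ⟨T', π, hπ, y ≫ P.arrow, Subobject.factors_comp_arrow _, ?_⟩
    rw [comp_nsmul_id] at hy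
    rw [← Preadditive.nsmul_comp, ← hy, Category.assoc, Subobject.factorThru_arrow]
  · intro h
    rw [epi_iff]
    intro T y
    obtain ⟨T', π, hπ, z, hz, e⟩ := h T (y ≫ P.arrow) (Subobject.factors_comp_arrow _)
    refine ⟨T', π, hπ, P.factorThru z hz, ?_⟩
    rw [← cancel_mono P.arrow, comp_nsmul_id, Preadditive.nsmul_comp, Subobject.factorThru_arrow,
      Category.assoc, e]

lemma factors_image_nsmul_yoneda {A : Ind C} {X : C} (n : ℕ) (x : Ind.yoneda.obj X ⟶ A) :
    (imageSubobject (n • 𝟙 A)).Factors x ↔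
      ∃ (X' : C) (π : X' ⟶ X) (_ : Epi π) (y : Ind.yoneda.obj X' ⟶ A),
        Ind.yoneda.map π ≫ x = n • y := by
  rw [factors_imageSubobject_yoneda]
  simp only [comp_nsmul_id]

section

variable (hart : ∀ X : C, IsArtinianObject X)
  (htor : ∀ X : C, ∃ n : ℕ, 0 < n ∧ n • 𝟙 X = 0)

/-- The divisible part `⋂ k A`. -/
noncomputable def divPart (A : Ind C) : Subobject A :=
  ⨅ k : ℕ, imageSubobject ((k + 1) • 𝟙 A)

lemma factors_divPart {A T : Ind C} (x : T ⟶ A) :
    (divPart A).Factors x ↔ ∀ k : ℕ, 0 < k → (imageSubobject (k • 𝟙 A)).Factors x := by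
  rw [divPart, factors_iInf]
  constructor
  · intro h k hk
    obtain ⟨j, rfl⟩ := Nat.exists_eq_add_one_of_ne_zero hk.ne'
    exact h j
  · intro h k
    exact h _ (Nat.succ_pos k)

lemma le_divPart {A : Ind C} (D : Subobject A) (h : ∀ k : ℕ, 0 < k → Epi (k • 𝟙 (D : Ind C))) :
    D ≤ divPart A := by
  rw [le_iff]
  intro T x hx
  rw [factors_divPart]
  intro k hk
  exact Subobject.factors_of_le x (le_image_of_epi D k (h k hk)) hx

/-- on `n`-torsion the divisible part is `n^N A` for `N` large. -/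
lemma factors_divPart_of_tors {A : Ind C} {n : ℕ} {N : ℕ}
    (hN : ∀ k : ℕ, N ≤ k → imageSubobject ((n ^ k) • 𝟙 A) = imageSubobject ((n ^ N) • 𝟙 A))
    {T : Ind C} (x : T ⟶ A) (hx : n • x = 0)
    (hx' : (imageSubobject ((n ^ N) • 𝟙 A)).Factors x) : (divPart A).Factors x := by
  rw [factors_divPart]
  intro k hk
  obtain ⟨a, b, j, rfl, ha, hb⟩ := coprime_part n k hk
  have h1 : (imageSubobject (a • 𝟙 A)).Factors x := by
    refine Subobject.factors_of_le x ?_ hx'
    rw [← hN (max N j) (le_max_left _ _)]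
    exact image_nsmul_le_of_dvd (ha.trans (pow_dvd_pow n (le_max_right _ _)))
  obtain ⟨v, hv⟩ := exists_zsmul_of_coprime hb.symm x hx
  obtain ⟨T', π, hπ, y, hy⟩ := (factors_image_nsmul a x).1 h1
  refine (factors_image_nsmul (a * b) x).2 ⟨T', π, hπ, v • y, ?_⟩
  rw [hv, Preadditive.comp_nsmul, Preadditive.comp_zsmul, hy, mul_comm, mul_smul, smul_comm v a y]

include hart htor

/-- the divisible part is divisible -/
lemma divPart_divisible {A : Ind C} (hA : Cof A) (k : ℕ) (hk : 0 < k) :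
    Epi (k • 𝟙 (divPart A : Ind C)) := by
  rw [epi_nsmul_iff_yoneda]
  intro X x hx
  obtain ⟨n', hn', hx'⟩ := exists_smul_eq_zero htor x
  have hn : 0 < n' * k := Nat.mul_pos hn' hk
  obtain ⟨N, hN⟩ := exists_image_stable hart htor hA hn
  have h1 := (factors_divPart x).1 hx ((n' * k) ^ (N + 1)) (Nat.pow_pos hn)
  rw [factors_image_nsmul_yoneda] at h1
  obtain ⟨X', π, hπ, y, hy⟩ := h1
  -- `z = n^N y`
  let z := (n' * k) ^ N • y
  have hz : Ind.yoneda.map π ≫ x = (n' * k) • z := by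
    simp only [z]
    rw [hy, ← mul_smul, pow_succ, mul_comm]
  have hz0 : (n' * k) ^ 2 • z = 0 := by
    rw [pow_two, mul_smul, ← hz, mul_comm, ← Preadditive.comp_nsmul, mul_smul, hx', smul_zero,
      comp_zero]
  obtain ⟨N₂, hN₂⟩ := exists_image_stable hart htor hA (n := (n' * k) ^ 2) (Nat.pow_pos hn)
  have h2 : (divPart A).Factors z := by
    refine factors_divPart_of_tors hN₂ z hz0 ?_
    rw [← pow_mul]
    refine Subobject.factors_of_le z ?_ (factors_image_nsmul_self _ y)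
    rw [← hN (N + 2 * N₂) (by omega)]
    exact image_nsmul_le_of_dvd (pow_dvd_pow _ (by omega))
  refine ⟨X', π, hπ, n' • z, factors_nsmul h2 _, ?_⟩
  rw [hz, mul_comm, mul_smul]

omit hart htor in
lemma divPart_inf_tors {A : Ind C} {n : ℕ} (hn : 0 < n) {N : ℕ}
    (hN : ∀ k : ℕ, N ≤ k → imageSubobject ((n ^ k) • 𝟙 A) = imageSubobject ((n ^ N) • 𝟙 A)) :
    divPart A ⊓ tors n A = imageSubobject ((n ^ N) • 𝟙 A) ⊓ tors n A := by
  apply le_antisymm
  · rw [le_iff]
    intro T x hx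
    rw [factors_inf, factors_tors] at hx ⊢
    exact ⟨(factors_divPart x).1 hx.1 _ (Nat.pow_pos hn), hx.2⟩
  · rw [le_iff]
    intro T x hx
    rw [factors_inf, factors_tors] at hx ⊢
    exact ⟨factors_divPart_of_tors hN x hx.2 hx.1, hx.2⟩

lemma cof_divPart {A : Ind C} (hA : Cof A) : Cof (divPart A : Ind C) := by
  intro n hn
  obtain ⟨N, hN⟩ := exists_image_stable hart htor hA hn
  rw [← isC_inf_tors_iff, divPart_inf_tors hn hN, isC_inf_tors_iff]
  exact cof_imageSubobject hart htor hA hA _ n hn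

end

end K992.IndE
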