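import Mathlib.Algebra.Homology.ShortComplex.SnakeLemma
import Mathlib.Algebra.Homology.ShortComplex.Abelian
import Mathlib.Data.Nat.Prime.Defs
import Mathlib.Data.Int.GCD
import Groth.Agent.IndCof.K992.IndClosure

/-!
# Ind-objects of cofinite type
-/

set_option autoImplicit false
universe v u

namespace K992.IndM

open CategoryTheory CategoryTheory.Limits Opposite
open K992.Refine K992.IndB K992.IndC

/-- the part of `m` prime to `n`. -/
lemma coprime_part (n : ℕ) (m : ℕ) (hm : 0 < m) :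
    ∃ a b j : ℕ, m = a * b ∧ a ∣ n ^ j ∧ Nat.Coprime b n := by
  induction m using Nat.strong_induction_on with
  | _ m ih =>
    by_cases h : Nat.Coprime m n
    · exact ⟨1, m, 0, by simp, by simp, h⟩
    · have hd : 1 < Nat.gcd m n := by
        have h0 : Nat.gcd m n ≠ 0 := by
          intro h0
          have := Nat.eq_zero_of_gcd_eq_zero_left h0
          omega
        have h1 : Nat.gcd m n ≠ 1 := h
        omega
      obtain ⟨m', hm'⟩ := Nat.gcd_dvd_left m n
      have hm'0 : 0 < m' := by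
        rcases Nat.eq_zero_or_pos m' with h0 | h0
        · rw [h0, Nat.mul_zero] at hm'
          omega
        · exact h0
      have hlt : m' < m := by
        calc m' = 1 * m' := (one_mul _).symm
          _ < Nat.gcd m n * m' := Nat.mul_lt_mul_of_pos_right hd hm'0
          _ = m := hm'.symm
      obtain ⟨a, b, j, e, ha, hb⟩ := ih m' hlt hm'0
      refine ⟨Nat.gcd m n * a, b, j + 1, ?_, ?_, hb⟩
      · rw [mul_assoc, ← e, ← hm']
      · rw [pow_succ, mul_comm (n ^ j)]
        exact mul_dvd_mul (Nat.gcd_dvd_right m n) ha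

section Tors

variable {V : Type u} [Category.{v} V] [Abelian V]

/-- the `n`-torsion of `A` as a subobject. -/
noncomputable def tors (n : ℕ) (A : V) : Subobject A := kernelSubobject (n • 𝟙 A)

lemma factors_tors {A T : V} (n : ℕ) (x : T ⟶ A) : (tors n A).Factors x ↔ n • x = 0 := by
  rw [tors, kernelSubobject_factors_iff, comp_nsmul_id]

lemma tors_arrow_smul (n : ℕ) (A : V) : n • (tors n A).arrow = 0 :=
  (factors_tors n _).1 (Subobject.factors_self _)

/-- Bezout: `x` killed by `a` with `a`, `b` coprime is a multiple of `b`. -/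
lemma exists_eq_smul_of_coprime {A T : V} {a b : ℕ} (hab : Nat.Coprime a b) (x : T ⟶ A)
    (hx : a • x = 0) : ∃ y : T ⟶ A, x = b • y ∧ a • y = 0 := by
  have h := Nat.gcd_eq_gcd_ab a b
  rw [Nat.Coprime] at hab
  rw [hab] at h
  refine ⟨Nat.gcdB a b • x, ?_, ?_⟩
  · have h1 : ((1 : ℤ)) • x = ((a : ℤ) * Nat.gcdA a b + (b : ℤ) * Nat.gcdB a b) • x := by
      rw [← h]; rfl
    rw [one_smul, add_smul, mul_comm (a : ℤ), mul_smul, natCast_zsmul, hx, smul_zero, zero_add,
      mul_smul, natCast_zsmul] at h1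
    exact h1
  · rw [smul_comm, hx, smul_zero]

end Tors

variable {C : Type v} [SmallCategory C] [Abelian C]

/-- `A` is of cofinite type. -/
def Cof (A : Ind C) : Prop := ∀ n : ℕ, 0 < n → IsC (kernel (n • 𝟙 A))

lemma Cof.tors {A : Ind C} (hA : Cof A) {n : ℕ} (hn : 0 < n) :
    IsC ((K992.IndM.tors n A : Subobject A) : Ind C) :=
  (isC_kernelSubobject_iff _).2 (hA n hn)

lemma cof_of_tors {A : Ind C} (h : ∀ n, 0 < n → IsC ((tors n A : Subobject A) : Ind C)) :
    Cof A := fun n hn => (isC_kernelSubobject_iff _).1 (h n hn)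

/-- Every element with source in `C` is torsion. -/
lemma exists_smul_eq_zero (htor : ∀ X : C, ∃ n : ℕ, 0 < n ∧ n • 𝟙 X = 0) {A : Ind C} {X : C}
    (x : Ind.yoneda.obj X ⟶ A) : ∃ n : ℕ, 0 < n ∧ n • x = 0 := by
  obtain ⟨n, hn, h⟩ := htor X
  refine ⟨n, hn, ?_⟩
  have h1 : n • 𝟙 (Ind.yoneda.obj X) = 0 := by
    have := congrArg Ind.yoneda.map h
    rwa [Functor.map_nsmul, CategoryTheory.Functor.map_id, Functor.map_zero] at this
  have h2 : n • x = (n • 𝟙 (Ind.yoneda.obj X)) ≫ x := by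
    rw [Preadditive.nsmul_comp, Category.id_comp]
  rw [h2, h1, zero_comp]

/-- Splitting off the `n`-primary part. -/
lemma exists_decomp (htor : ∀ X : C, ∃ n : ℕ, 0 < n ∧ n • 𝟙 X = 0) {A : Ind C} {X : C}
    (n : ℕ) (x : Ind.yoneda.obj X ⟶ A) :
    ∃ (j : ℕ) (a b : Ind.yoneda.obj X ⟶ A), n ^ j • a = 0 ∧ x = a + n • b := by
  obtain ⟨m, hm, hmx⟩ := exists_smul_eq_zero htor x
  obtain ⟨a, b, j, rfl, ha, hb⟩ := coprime_part n m hm
  have h := Nat.gcd_eq_gcd_ab b n
  rw [Nat.Coprime] at hb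
  rw [hb] at h
  obtain ⟨c, hc⟩ := ha
  refine ⟨j, Nat.gcdA b n • (b • x), Nat.gcdB b n • x, ?_, ?_⟩
  · rw [hc, mul_comm, mul_smul, smul_comm a, ← mul_smul a, hmx, smul_zero, smul_zero]
  · have h1 : ((1 : ℤ)) • x = ((b : ℤ) * Nat.gcdA b n + (n : ℤ) * Nat.gcdB b n) • x := by
      rw [← h]; rfl
    rw [one_smul, add_smul, mul_comm (b : ℤ), mul_smul, natCast_zsmul, mul_smul,
      natCast_zsmul] at h1
    exact h1

/-- the image of the composite with a monomorphism -/
lemma imageSubobject_comp_mono {V : Type u} [Category.{v} V] [Abelian V] {P Q A : V} (f : P ⟶ Q)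
    (i : Q ⟶ A) [Mono i] :
    Subobject.mk ((imageSubobject f).arrow ≫ i) = imageSubobject (f ≫ i) := by
  apply le_antisymm
  · apply Subobject.mk_le_of_comm ((imageSubobject (f ≫ i)).factorThru
      ((imageSubobject f).arrow ≫ i) ?_) (Subobject.factorThru_arrow _ _ _)
    apply factors_of_epi _ (factorThruImageSubobject f)
    rw [← Category.assoc, imageSubobject_arrow_comp]
    simpa using imageSubobject_factors_comp_self (f ≫ i) (𝟙 P)
  · rw [imageSubobject_le_iff]
    rw [Subobject.mk_factors_iff]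
    refine ⟨factorThruImageSubobject f, ?_⟩
    change factorThruImageSubobject f ≫ (imageSubobject f).arrow ≫ i = f ≫ i
    rw [← Category.assoc, imageSubobject_arrow_comp]

lemma isC_imageSubobject_comp_mono {P Q A : Ind C} (hP : IsC P) (hQ : IsC Q) (f : P ⟶ Q)
    (i : Q ⟶ A) [Mono i] : IsC ((imageSubobject (f ≫ i) : Subobject A) : Ind C) := by
  rw [← imageSubobject_comp_mono]
  exact (isC_imageSubobject hP hQ f).of_iso (Subobject.underlyingIso _).symm

section Main

variable (hart : ∀ X : C, IsArtinianObject X)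
  (htor : ∀ X : C, ∃ n : ℕ, 0 < n ∧ n • 𝟙 X = 0)
  {A : Ind C} (hA : Cof A)

include hart htor hA

/-- **Key lemma**: for `A` of cofinite type there is `N` with `A = A[n^N] + n A`. -/
lemma exists_decomp_uniform {n : ℕ} (hn : 0 < n) :
    ∃ N : ℕ, ∀ (X : C) (x : Ind.yoneda.obj X ⟶ A), ∃ (X' : C) (π : X' ⟶ X) (_ : Epi π)
      (a b : Ind.yoneda.obj X' ⟶ A), n ^ N • a = 0 ∧ Ind.yoneda.map π ≫ x = a + n • b := by
  -- the chain `n^k A[n^(k+1)]`
  have hlift : ∀ k, (tors n A).Factors ((tors (n ^ (k + 1)) A).arrow ≫ (n ^ k • 𝟙 A)) := by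
    intro k
    rw [factors_tors, comp_nsmul_id, ← mul_smul, mul_comm, ← pow_succ, tors_arrow_smul]
  let R : ℕ → Subobject A := fun k =>
    imageSubobject ((tors (n ^ (k + 1)) A).arrow ≫ (n ^ k • 𝟙 A))
  have hR : ∀ k {X : C} (x : Ind.yoneda.obj X ⟶ A), (R k).Factors x ↔
      ∃ (X' : C) (π : X' ⟶ X) (_ : Epi π) (y : Ind.yoneda.obj X' ⟶ A),
        Ind.yoneda.map π ≫ x = n ^ k • y ∧ n ^ (k + 1) • y = 0 := by
    intro k X x
    rw [factors_imageSubobject_yoneda]
    constructor
    · rintro ⟨X', π, hπ, y, hy⟩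
      refine ⟨X', π, hπ, y ≫ (tors (n ^ (k + 1)) A).arrow, ?_, ?_⟩
      · rw [hy, ← Category.assoc, comp_nsmul_id]
      · rw [← factors_tors]
        exact Subobject.factors_comp_arrow _
    · rintro ⟨X', π, hπ, y, hy, hy'⟩
      rw [← factors_tors] at hy'
      refine ⟨X', π, hπ, (tors (n ^ (k + 1)) A).factorThru y hy', ?_⟩
      rw [← Category.assoc, Subobject.factorThru_arrow, comp_nsmul_id, hy]
  have hanti : Antitone R := by
    apply antitone_nat_of_succ_le
    intro k
    rw [le_iff_yoneda]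
    intro X x hx
    rw [hR] at hx ⊢
    obtain ⟨X', π, hπ, y, hy, hy'⟩ := hx
    refine ⟨X', π, hπ, n • y, ?_, ?_⟩
    · rw [hy, pow_succ, mul_smul]
    · rw [← mul_smul, ← pow_succ, hy']
  have hle : ∀ k, R k ≤ tors n A := fun k => (imageSubobject_le_iff _ _).2 (hlift k)
  have hC : ∀ k, IsC ((R k : Subobject A) : Ind C) := by
    intro k
    have : R k = imageSubobject ((tors n A).factorThru _ (hlift k) ≫ (tors n A).arrow) := by
      simp only [R, Subobject.factorThru_arrow]
    rw [this]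
    exact isC_imageSubobject_comp_mono (hA.tors (Nat.pow_pos hn)) (hA.tors hn) _ _
  obtain ⟨N, hN⟩ := dcc hart (tors n A) (hA.tors hn) R hanti hle hC
  -- `A[n^(N+j)] ⊆ A[n^N] + n A`
  have hind : ∀ (j : ℕ) (X : C) (x : Ind.yoneda.obj X ⟶ A), n ^ (N + j) • x = 0 →
      ∃ (X' : C) (π : X' ⟶ X) (_ : Epi π)
      (a b : Ind.yoneda.obj X' ⟶ A), n ^ N • a = 0 ∧ Ind.yoneda.map π ≫ x = a + n • b := by
    intro j
    induction j with
    | zero =>
      intro X x hx
      exact ⟨X, 𝟙 X, inferInstance, x, 0, hx, by simp⟩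
    | succ j ih =>
      intro X x hx
      have h1 : (R (N + j)).Factors (n ^ (N + j) • x) := by
        rw [hR]
        exact ⟨X, 𝟙 X, inferInstance, x, by simp, hx⟩
      rw [hN (N + j) (by omega), ← hN (N + j + 1) (by omega), hR] at h1
      obtain ⟨X', π, hπ, y, hy, hy'⟩ := h1
      have h2 : n ^ (N + j) • (Ind.yoneda.map π ≫ x - n • y) = 0 := by
        rw [smul_sub, ← mul_smul, ← pow_succ, ← hy, Preadditive.comp_nsmul, sub_self]
      obtain ⟨X'', π', hπ', a, b, ha, hab⟩ := ih X' _ h2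
      refine ⟨X'', π' ≫ π, inferInstance, a, b + Ind.yoneda.map π' ≫ y, ha, ?_⟩
      rw [Functor.map_comp, Category.assoc, smul_add, ← add_assoc, ← hab, Preadditive.comp_sub,
        Preadditive.comp_nsmul, sub_add_cancel]
  refine ⟨N, fun X x => ?_⟩
  obtain ⟨j, a, b, ha, hab⟩ := exists_decomp htor n x
  obtain ⟨X', π, hπ, a', b', ha', hab'⟩ := hind j X a (by
    rw [pow_add, mul_smul, ha, smul_zero])
  refine ⟨X', π, hπ, a', b' + Ind.yoneda.map π ≫ b, ha', ?_⟩
  rw [hab, Preadditive.comp_add, hab', smul_add, Preadditive.comp_nsmul, add_assoc]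

/-- `A / n A` lies in `C` for `A` of cofinite type. -/
theorem isC_cokernel_nsmul {n : ℕ} (hn : 0 < n) : IsC (cokernel (n • 𝟙 A)) := by
  obtain ⟨N, hN⟩ := exists_decomp_uniform hart htor hA hn
  have hlift : (tors (n ^ N) A).Factors ((tors (n ^ (N + 1)) A).arrow ≫ (n • 𝟙 A)) := by
    rw [factors_tors, comp_nsmul_id, ← mul_smul, ← pow_succ, tors_arrow_smul]
  let f : ((tors (n ^ (N + 1)) A : Subobject A) : Ind C) ⟶ ((tors (n ^ N) A : Subobject A) : Ind C) :=
    (tors (n ^ N) A).factorThru _ hlift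
  have hf : f ≫ (tors (n ^ N) A).arrow = (tors (n ^ (N + 1)) A).arrow ≫ (n • 𝟙 A) :=
    Subobject.factorThru_arrow _ _ _
  let g : ((tors (n ^ N) A : Subobject A) : Ind C) ⟶ cokernel (n • 𝟙 A) :=
    (tors (n ^ N) A).arrow ≫ cokernel.π _
  have hfg : f ≫ g = 0 := by
    simp only [g]
    rw [← Category.assoc, hf, Category.assoc, cokernel.condition, comp_zero]
  have hg : Epi g := by
    rw [epi_iff]
    intro X y
    obtain ⟨X', π, hπ, x, hx⟩ := exists_lift_of_epi (cokernel.π (n • 𝟙 A)) y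
    obtain ⟨X'', π', hπ', a, b, ha, hab⟩ := hN X' x
    rw [← factors_tors] at ha
    refine ⟨X'', π' ≫ π, inferInstance, (tors (n ^ N) A).factorThru a ha, ?_⟩
    simp only [g]
    rw [← Category.assoc, Subobject.factorThru_arrow, Functor.map_comp, Category.assoc, hx,
      ← Category.assoc, hab, Preadditive.add_comp, ← comp_nsmul_id b n, Category.assoc b,
      cokernel.condition, comp_zero, add_zero]
  have hex : (ShortComplex.mk f g hfg).Exact := by
    rw [exact_iff_yoneda]
    intro X x hx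
    change Ind.yoneda.obj X ⟶ ((tors (n ^ N) A : Subobject A) : Ind C) at x
    change x ≫ (tors (n ^ N) A).arrow ≫ cokernel.π _ = 0 at hx
    have hx' : (x ≫ (tors (n ^ N) A).arrow) ≫ cokernel.π (n • 𝟙 A) = 0 := by
      rw [Category.assoc]; exact hx
    have hex' : (ShortComplex.mk (n • 𝟙 A) (cokernel.π (n • 𝟙 A)) (cokernel.condition _)).Exact :=
      ShortComplex.exact_of_g_is_cokernel _ (cokernelIsCokernel _)
    obtain ⟨X', π, hπ, y, hy⟩ := (exact_iff_yoneda _).1 hex' X _ hx'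
    change Ind.yoneda.map π ≫ x ≫ (tors (n ^ N) A).arrow = y ≫ (n • 𝟙 A) at hy
    have hy' : (tors (n ^ (N + 1)) A).Factors y := by
      rw [factors_tors, pow_succ, mul_smul, ← comp_nsmul_id y n, ← hy, ← Preadditive.comp_nsmul,
        ← Preadditive.comp_nsmul, tors_arrow_smul, comp_zero, comp_zero]
    refine ⟨X', π, hπ, (tors (n ^ (N + 1)) A).factorThru y hy', ?_⟩
    change Ind.yoneda.map π ≫ x = _ ≫ f
    rw [← cancel_mono (tors (n ^ N) A).arrow, Category.assoc, Category.assoc, hf,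
      ← Category.assoc ((tors (n ^ (N + 1)) A).factorThru y hy'), Subobject.factorThru_arrow, hy]
  exact isC_of_epi_exact f g hfg hex (hA.tors (Nat.pow_pos hn)) (hA.tors (Nat.pow_pos hn))

/-- the chain `n^k A` stabilises. -/
theorem exists_image_stable {n : ℕ} (hn : 0 < n) : ∃ N : ℕ, ∀ k : ℕ, N ≤ k →
    imageSubobject ((n ^ k) • 𝟙 A) = imageSubobject ((n ^ N) • 𝟙 A) := by
  obtain ⟨N, hN⟩ := exists_decomp_uniform hart htor hA hn
  refine ⟨N, ?_⟩
  have hstep : ∀ k, N ≤ k →
      imageSubobject ((n ^ (k + 1)) • 𝟙 A) = imageSubobject ((n ^ k) • 𝟙 A) := by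
    intro k hk
    obtain ⟨d, rfl⟩ := Nat.exists_eq_add_of_le hk
    apply le_antisymm
    · rw [imageSubobject_le_iff, pow_succ, mul_smul]
      exact factors_image_nsmul_self _ _
    · rw [le_iff_yoneda]
      intro X x hx
      rw [factors_imageSubobject_yoneda] at hx ⊢
      obtain ⟨X', π, hπ, y, hy⟩ := hx
      obtain ⟨X'', π', hπ', a, b, ha, hab⟩ := hN X' y
      refine ⟨X'', π' ≫ π, inferInstance, b, ?_⟩
      rw [Functor.map_comp, Category.assoc, hy, comp_nsmul_id, Preadditive.comp_nsmul, hab,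
        comp_nsmul_id, smul_add, pow_add, mul_comm (n ^ N), mul_smul, ha, smul_zero, zero_add,
        pow_succ, pow_add, ← mul_smul, mul_comm (n ^ N)]
  intro k hk
  induction k, hk using Nat.le_induction with
  | base => rfl
  | succ k hk ih => rw [hstep k hk, ih]

end Main

end K992.IndM
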