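import Groth.Agent.IndCof.K992.IndSnake
import Mathlib.Data.Nat.Prime.Basic

/-!
# Kernels, cokernels of ind-objects of cofinite type; the primary case
-/

set_option autoImplicit false
universe v u

namespace K992.IndP

open CategoryTheory CategoryTheory.Limits Opposite ZeroObject
open K992.Refine K992.IndB K992.IndC K992.IndM K992.IndS

variable {C : Type v} [SmallCategory C] [Abelian C]

section

variable (hart : ∀ X : C, IsArtinianObject X)
  (htor : ∀ X : C, ∃ n : ℕ, 0 < n ∧ n • 𝟙 X = 0)

include hart htor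

/-- the image of a morphism between ind-objects of cofinite type. -/
lemma cof_image {A B : Ind C} (hA : Cof A) (hB : Cof B) (f : A ⟶ B) :
    Cof (Abelian.image f) := by
  have w : kernel.ι f ≫ Abelian.factorThruImage f = 0 := by
    rw [← cancel_mono (Abelian.image.ι f), Category.assoc, Abelian.image.fac,
        kernel.condition, zero_comp]
  have hS : (ShortComplex.mk (kernel.ι f) (Abelian.factorThruImage f) w).ShortExact := by
    refine ShortComplex.ShortExact.mk' ?_ inferInstance inferInstance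
    rw [ShortComplex.exact_iff_exact_up_to_refinements]
    intro T x hx
    change T ⟶ A at x
    change x ≫ Abelian.factorThruImage f = 0 at hx
    have hx' : x ≫ f = 0 := by
      rw [← Abelian.image.fac f, ← Category.assoc, hx, zero_comp]
    exact ⟨T, 𝟙 T, inferInstance, kernel.lift f x hx', by
      change 𝟙 T ≫ x = kernel.lift f x hx' ≫ kernel.ι f
      simp⟩
  have h₁ : Cof (ShortComplex.mk (kernel.ι f) (Abelian.factorThruImage f) w).X₁ :=
    cof_kernel hA hB f
  have h₂ : Cof (ShortComplex.mk (kernel.ι f) (Abelian.factorThruImage f) w).X₂ := hA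
  have h₃ := cof_X₃ hart htor hS h₁ h₂
  exact h₃

/-- cokernels of morphisms between ind-objects of cofinite type. -/
lemma cof_cokernel {A B : Ind C} (hA : Cof A) (hB : Cof B) (f : A ⟶ B) :
    Cof (cokernel f) := by
  have w : Abelian.image.ι f ≫ cokernel.π f = 0 := by
    rw [← cancel_epi (Abelian.factorThruImage f), ← Category.assoc, Abelian.image.fac,
        cokernel.condition, comp_zero]
  have hS : (ShortComplex.mk (Abelian.image.ι f) (cokernel.π f) w).ShortExact := by
    refine ShortComplex.ShortExact.mk' ?_ inferInstance inferInstance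
    rw [ShortComplex.exact_iff_exact_up_to_refinements]
    intro T x hx
    change T ⟶ B at x
    change x ≫ cokernel.π f = 0 at hx
    obtain ⟨T', π, hπ, y, hy⟩ := (CokernelCofork.IsColimit.comp_π_eq_zero_iff_up_to_refinements
      (cokernelIsCokernel f) x).1 hx
    refine ⟨T', π, hπ, y ≫ Abelian.factorThruImage f, ?_⟩
    change π ≫ x = (y ≫ Abelian.factorThruImage f) ≫ Abelian.image.ι f
    rw [Category.assoc, Abelian.image.fac, hy]
  have h₁ : Cof (ShortComplex.mk (Abelian.image.ι f) (cokernel.π f) w).X₁ :=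
    cof_image hart htor hA hB f
  have h₂ : Cof (ShortComplex.mk (Abelian.image.ι f) (cokernel.π f) w).X₂ := hB
  have h₃ := cof_X₃ hart htor hS h₁ h₂
  exact h₃

end

section Primary

variable {p : ℕ} (hp : p.Prime) (htorp : ∀ X : C, ∃ n : ℕ, (p ^ n) • 𝟙 X = 0)

include hp htorp

lemma htor_of_primary : ∀ X : C, ∃ n : ℕ, 0 < n ∧ n • 𝟙 X = 0 := by
  intro X
  obtain ⟨n, hn⟩ := htorp X
  exact ⟨p ^ n, Nat.pow_pos hp.pos, hn⟩

omit hp in
lemma exists_pow_smul_eq_zero {A : Ind C} {X : C} (x : Ind.yoneda.obj X ⟶ A) :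
    ∃ n : ℕ, p ^ n • x = 0 := by
  obtain ⟨n, h⟩ := htorp X
  refine ⟨n, ?_⟩
  have h1 : (p ^ n) • 𝟙 (Ind.yoneda.obj X) = 0 := by
    have := congrArg Ind.yoneda.map h
    rwa [Functor.map_nsmul, CategoryTheory.Functor.map_id, Functor.map_zero] at this
  have h2 : (p ^ n) • x = ((p ^ n) • 𝟙 (Ind.yoneda.obj X)) ≫ x := by
    rw [Preadditive.nsmul_comp, Category.id_comp]
  rw [h2, h1, zero_comp]

/-- the `p^k b`-torsion is the `p^k`-torsion, for `b` prime to `p`. -/
lemma tors_eq_of_coprime (A : Ind C) (k : ℕ) {b : ℕ} (hb : Nat.Coprime b p) :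
    tors (p ^ k * b) A = tors (p ^ k) A := by
  apply le_antisymm
  · rw [le_iff_yoneda]
    intro X x hx
    rw [factors_tors] at hx ⊢
    obtain ⟨l, hl⟩ := exists_pow_smul_eq_zero htorp x
    have hb' : Nat.Coprime b (p ^ l) := Nat.Coprime.pow_right l hb
    have h1 : b • (p ^ k • x) = 0 := by rw [← mul_smul, mul_comm]; exact hx
    obtain ⟨y, hy, hy'⟩ := exists_eq_smul_of_coprime hb' (p ^ k • x) h1
    -- `p^k x` is killed by both `b` and `p^l`
    have h2 : p ^ l • (p ^ k • x) = 0 := by rw [smul_comm, hl, smul_zero]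
    obtain ⟨z, hz, hz'⟩ := exists_eq_smul_of_coprime hb'.symm (p ^ k • x) h2
    have h := Nat.gcd_eq_gcd_ab b (p ^ l)
    rw [Nat.Coprime] at hb'
    rw [hb'] at h
    have h3 : ((1 : ℤ)) • (p ^ k • x) =
        ((b : ℤ) * Nat.gcdA b (p ^ l) + ((p ^ l : ℕ) : ℤ) * Nat.gcdB b (p ^ l)) • (p ^ k • x) := by
      rw [← h]; rfl
    rw [one_smul, add_smul, mul_comm (b : ℤ), mul_comm ((p ^ l : ℕ) : ℤ), mul_smul, mul_smul,
      natCast_zsmul, natCast_zsmul, h1, h2, smul_zero, smul_zero, add_zero] at h3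
    exact h3
  · rw [le_iff]
    intro T x hx
    rw [factors_tors] at hx ⊢
    rw [mul_comm, mul_smul, hx, smul_zero]

/-- In the `p`-primary case it is enough to control the `p^n`-torsion. -/
lemma cof_of_primary {A : Ind C} (hA : ∀ n : ℕ, IsC (kernel ((p ^ n) • 𝟙 A))) : Cof A := by
  apply cof_of_tors
  intro m hm
  obtain ⟨a, b, j, rfl, ha, hb⟩ := coprime_part p m hm
  obtain ⟨k, -, rfl⟩ := (Nat.dvd_prime_pow hp).1 ha
  rw [tors_eq_of_coprime hp htorp A k hb]
  exact (isC_kernelSubobject_iff _).2 (hA k)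

end Primary

end K992.IndP
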