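import Groth.Agent.IndCof.K992.IndMain

/-!
# Kernels, cokernels and extensions of ind-objects of cofinite type
-/

set_option autoImplicit false
universe v u

namespace K992.IndS

open CategoryTheory CategoryTheory.Limits Opposite ZeroObject
open K992.Refine K992.IndB K992.IndC K992.IndM

section

variable {V : Type u} [Category.{v} V] [Abelian V]

/-- the snake input of multiplication by `n` on a short exact sequence. -/
noncomputable def snake (S : ShortComplex V) (hS : S.ShortExact) (n : ℕ) :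
    ShortComplex.SnakeInput V where
  L₀ := kernel (n • 𝟙 S)
  L₁ := S
  L₂ := S
  L₃ := cokernel (n • 𝟙 S)
  v₀₁ := kernel.ι _
  v₁₂ := n • 𝟙 S
  v₂₃ := cokernel.π _
  w₀₂ := kernel.condition _
  w₁₃ := cokernel.condition _
  h₀ := kernelIsKernel _
  h₃ := cokernelIsCokernel _
  L₁_exact := hS.exact
  epi_L₁_g := hS.epi_g
  L₂_exact := hS.exact
  mono_L₂_f := hS.mono_f

variable (S : ShortComplex V) (hS : S.ShortExact) (n : ℕ)

lemma snake_τ₁ : (snake S hS n).v₁₂.τ₁ = n • 𝟙 S.X₁ := by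
  change (n • 𝟙 S : S ⟶ S).τ₁ = n • 𝟙 S.X₁
  induction n with
  | zero => simp
  | succ n ih => rw [succ_nsmul, succ_nsmul, ShortComplex.add_τ₁, ih]; rfl

lemma snake_τ₂ : (snake S hS n).v₁₂.τ₂ = n • 𝟙 S.X₂ := by
  change (n • 𝟙 S : S ⟶ S).τ₂ = n • 𝟙 S.X₂
  induction n with
  | zero => simp
  | succ n ih => rw [succ_nsmul, succ_nsmul, ShortComplex.add_τ₂, ih]; rfl

lemma snake_τ₃ : (snake S hS n).v₁₂.τ₃ = n • 𝟙 S.X₃ := by
  change (n • 𝟙 S : S ⟶ S).τ₃ = n • 𝟙 S.X₃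
  induction n with
  | zero => simp
  | succ n ih => rw [succ_nsmul, succ_nsmul, ShortComplex.add_τ₃, ih]; rfl

noncomputable def isoK₁ : (snake S hS n).L₀.X₁ ≅ kernel (n • 𝟙 S.X₁) :=
  (IsLimit.conePointUniqueUpToIso (snake S hS n).h₀τ₁ (limit.isLimit _) :
    _ ≅ kernel (snake S hS n).v₁₂.τ₁) ≪≫ kernelIsoOfEq (snake_τ₁ S hS n)

noncomputable def isoK₂ : (snake S hS n).L₀.X₂ ≅ kernel (n • 𝟙 S.X₂) :=
  (IsLimit.conePointUniqueUpToIso (snake S hS n).h₀τ₂ (limit.isLimit _) :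
    _ ≅ kernel (snake S hS n).v₁₂.τ₂) ≪≫ kernelIsoOfEq (snake_τ₂ S hS n)

noncomputable def isoK₃ : (snake S hS n).L₀.X₃ ≅ kernel (n • 𝟙 S.X₃) :=
  (IsLimit.conePointUniqueUpToIso (snake S hS n).h₀τ₃ (limit.isLimit _) :
    _ ≅ kernel (snake S hS n).v₁₂.τ₃) ≪≫ kernelIsoOfEq (snake_τ₃ S hS n)

noncomputable def isoC₁ : (snake S hS n).L₃.X₁ ≅ cokernel (n • 𝟙 S.X₁) :=
  (IsColimit.coconePointUniqueUpToIso (snake S hS n).h₃τ₁ (colimit.isColimit _) :
    _ ≅ cokernel (snake S hS n).v₁₂.τ₁) ≪≫ cokernelIsoOfEq (snake_τ₁ S hS n)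

noncomputable def isoC₂ : (snake S hS n).L₃.X₂ ≅ cokernel (n • 𝟙 S.X₂) :=
  (IsColimit.coconePointUniqueUpToIso (snake S hS n).h₃τ₂ (colimit.isColimit _) :
    _ ≅ cokernel (snake S hS n).v₁₂.τ₂) ≪≫ cokernelIsoOfEq (snake_τ₂ S hS n)

end

variable {C : Type v} [SmallCategory C] [Abelian C]

/-- In an exact sequence `X₁ ⟶ X₂ ⟶ X₃ ⟶ X₄ ⟶ X₅` with `X₁, X₂, X₄, X₅` in `C` also `X₃` is. -/
lemma isC_of_exact5 {X₁ X₂ X₃ X₄ X₅ : Ind C} (f₁ : X₁ ⟶ X₂) (f₂ : X₂ ⟶ X₃) (f₃ : X₃ ⟶ X₄)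
    (f₄ : X₄ ⟶ X₅) (w₁ : f₁ ≫ f₂ = 0) (w₂ : f₂ ≫ f₃ = 0) (w₃ : f₃ ≫ f₄ = 0)
    (h₁ : (ShortComplex.mk f₁ f₂ w₁).Exact) (h₂ : (ShortComplex.mk f₂ f₃ w₂).Exact)
    (h₃ : (ShortComplex.mk f₃ f₄ w₃).Exact)
    (c₁ : IsC X₁) (c₂ : IsC X₂) (c₄ : IsC X₄) (c₅ : IsC X₅) : IsC X₃ := by
  let f : cokernel f₁ ⟶ X₃ := cokernel.desc f₁ f₂ w₁
  have hf : cokernel.π f₁ ≫ f = f₂ := cokernel.π_desc _ _ _
  let g : X₃ ⟶ kernel f₄ := kernel.lift f₄ f₃ w₃
  have hg : g ≫ kernel.ι f₄ = f₃ := kernel.lift_ι _ _ _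
  have w : f ≫ g = 0 := by
    rw [← cancel_epi (cokernel.π f₁), ← cancel_mono (kernel.ι f₄), ← Category.assoc, hf,
      Category.assoc, hg, w₂, comp_zero, zero_comp]
  have hmono : Mono f := by
    apply Preadditive.mono_of_cancel_zero
    intro T x hx
    obtain ⟨T', π, hπ, y, hy⟩ := surjective_up_to_refinements_of_epi (cokernel.π f₁) x
    have h0 : y ≫ f₂ = 0 := by
      rw [← hf, ← Category.assoc, ← hy, Category.assoc, hx, comp_zero]
    obtain ⟨T'', π', hπ', z, hz⟩ := h₁.exact_up_to_refinements y h0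
    change π' ≫ y = z ≫ f₁ at hz
    apply zero_of_epi_comp (π' ≫ π)
    rw [Category.assoc, hy, ← Category.assoc, hz, Category.assoc, cokernel.condition, comp_zero]
  have hepi : Epi g := by
    rw [epi_iff_surjective_up_to_refinements]
    intro T y
    obtain ⟨T', π, hπ, z, hz⟩ := h₃.exact_up_to_refinements (y ≫ kernel.ι f₄)
      (by change (y ≫ kernel.ι f₄) ≫ f₄ = 0; rw [Category.assoc, kernel.condition, comp_zero])
    change π ≫ y ≫ kernel.ι f₄ = z ≫ f₃ at hz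
    refine ⟨T', π, hπ, z, ?_⟩
    rw [← cancel_mono (kernel.ι f₄), Category.assoc, hz, Category.assoc, hg]
  have hex : (ShortComplex.mk f g w).Exact := by
    rw [ShortComplex.exact_iff_exact_up_to_refinements]
    intro T x hx
    change T ⟶ X₃ at x
    change x ≫ g = 0 at hx
    have hx' : x ≫ f₃ = 0 := by rw [← hg, ← Category.assoc, hx, zero_comp]
    obtain ⟨T', π, hπ, z, hz⟩ := h₂.exact_up_to_refinements x hx'
    change π ≫ x = z ≫ f₂ at hz
    refine ⟨T', π, hπ, z ≫ cokernel.π f₁, ?_⟩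
    change π ≫ x = (z ≫ cokernel.π f₁) ≫ f
    rw [Category.assoc, hf, hz]
  exact isC_ext f g w hex (isC_cokernel c₁ c₂ f₁) (isC_kernel c₄ c₅ f₄)

section Main

variable (hart : ∀ X : C, IsArtinianObject X)
  (htor : ∀ X : C, ∃ n : ℕ, 0 < n ∧ n • 𝟙 X = 0)

lemma Cof.of_iso {A B : Ind C} (e : A ≅ B) (hA : Cof A) : Cof B := by
  intro n hn
  refine (hA n hn).of_iso (kernel.mapIso _ _ e e ?_)
  rw [Preadditive.nsmul_comp, Preadditive.comp_nsmul, Category.id_comp, Category.comp_id]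

/-- an object of `C` is of cofinite type -/
lemma cof_of_isC {A : Ind C} (hA : IsC A) : Cof A := fun _ _ => isC_kernel hA hA _

/-- kernels of morphisms between ind-objects of cofinite type. -/
lemma cof_kernel {A B : Ind C} (hA : Cof A) (hB : Cof B) (f : A ⟶ B) : Cof (kernel f) := by
  intro n hn
  let i : kernel (n • 𝟙 (kernel f)) ⟶ kernel (n • 𝟙 A) :=
    kernel.map _ _ (kernel.ι f) (kernel.ι f) (by
      rw [Preadditive.nsmul_comp, Preadditive.comp_nsmul, Category.id_comp, Category.comp_id])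
  let g : kernel (n • 𝟙 A) ⟶ kernel (n • 𝟙 B) :=
    kernel.map _ _ f f (by
      rw [Preadditive.nsmul_comp, Preadditive.comp_nsmul, Category.id_comp, Category.comp_id])
  have hi : i ≫ kernel.ι _ = kernel.ι _ ≫ kernel.ι f := by simp [i]
  have hg : g ≫ kernel.ι _ = kernel.ι _ ≫ f := by simp [g]
  have w : i ≫ g = 0 := by
    rw [← cancel_mono (kernel.ι _), Category.assoc, hg, ← Category.assoc, hi, Category.assoc,
      kernel.condition, comp_zero, zero_comp]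
  have hmono : Mono i := by
    have : Mono (i ≫ kernel.ι _) := by rw [hi]; infer_instance
    exact mono_of_mono i (kernel.ι _)
  refine isC_of_mono_exact i g w ?_ (hA n hn) (hB n hn)
  rw [ShortComplex.exact_iff_exact_up_to_refinements]
  intro T x hx
  change T ⟶ kernel (n • 𝟙 A) at x
  change x ≫ g = 0 at hx
  have h1 : (x ≫ kernel.ι _) ≫ f = 0 := by
    rw [Category.assoc, ← hg, ← Category.assoc, hx, zero_comp]
  have h2 : kernel.lift f _ h1 ≫ (n • 𝟙 (kernel f)) = 0 := by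
    rw [← cancel_mono (kernel.ι f), comp_nsmul_id, Preadditive.nsmul_comp, kernel.lift_ι,
      ← comp_nsmul_id, Category.assoc, kernel.condition, comp_zero, zero_comp]
  refine ⟨T, 𝟙 T, inferInstance, kernel.lift _ _ h2, ?_⟩
  change 𝟙 T ≫ x = kernel.lift _ _ h2 ≫ i
  rw [← cancel_mono (kernel.ι _), Category.assoc, Category.assoc, hi, kernel.lift_ι_assoc,
    kernel.lift_ι, Category.id_comp]

include hart htor in
/-- If the first two terms of a short exact sequence are of cofinite type, so is the third. -/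
lemma cof_X₃ {S : ShortComplex (Ind C)} (hS : S.ShortExact) (h₁ : Cof S.X₁) (h₂ : Cof S.X₂) :
    Cof S.X₃ := by
  intro n hn
  rw [IsC.iff_of_iso (isoK₃ S hS n).symm]
  have c₁ : IsC (snake S hS n).L₀.X₁ := (h₁ n hn).of_iso (isoK₁ S hS n).symm
  have c₂ : IsC (snake S hS n).L₀.X₂ := (h₂ n hn).of_iso (isoK₂ S hS n).symm
  have c₄ : IsC (snake S hS n).L₃.X₁ :=
    (isC_cokernel_nsmul hart htor h₁ hn).of_iso (isoC₁ S hS n).symm
  have c₅ : IsC (snake S hS n).L₃.X₂ :=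
    (isC_cokernel_nsmul hart htor h₂ hn).of_iso (isoC₂ S hS n).symm
  exact isC_of_exact5 (snake S hS n).L₀.f (snake S hS n).L₀.g (snake S hS n).δ
    (snake S hS n).L₃.f (snake S hS n).L₀.zero _ _
    (snake S hS n).L₀_exact (snake S hS n).L₁'_exact (snake S hS n).L₂'_exact c₁ c₂ c₄ c₅

include hart htor in
/-- If the outer terms of a short exact sequence are of cofinite type, so is the middle. -/
lemma cof_X₂ {S : ShortComplex (Ind C)} (hS : S.ShortExact) (h₁ : Cof S.X₁) (h₃ : Cof S.X₃) :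
    Cof S.X₂ := by
  intro n hn
  rw [IsC.iff_of_iso (isoK₂ S hS n).symm]
  have c₁ : IsC (snake S hS n).L₀.X₁ := (h₁ n hn).of_iso (isoK₁ S hS n).symm
  have c₃ : IsC (snake S hS n).L₀.X₃ := (h₃ n hn).of_iso (isoK₃ S hS n).symm
  have c₄ : IsC (snake S hS n).L₃.X₁ :=
    (isC_cokernel_nsmul hart htor h₁ hn).of_iso (isoC₁ S hS n).symm
  have h0 : (ShortComplex.mk (0 : 0 ⟶ (snake S hS n).L₀.X₁) (snake S hS n).L₀.f zero_comp).Exact := by
    have : Mono S.f := hS.mono_f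
    have : Mono (snake S hS n).L₀.f := by
      have : Mono (snake S hS n).L₁.f := hS.mono_f
      infer_instance
    exact (ShortComplex.exact_iff_mono _ rfl).2 this
  have hz : IsC (0 : Ind C) := by
    refine ⟨0, ⟨?_⟩⟩
    exact (Functor.map_isZero Ind.yoneda (isZero_zero C)).iso (isZero_zero _)
  exact isC_of_exact5 (0 : 0 ⟶ (snake S hS n).L₀.X₁) (snake S hS n).L₀.f (snake S hS n).L₀.g
    (snake S hS n).δ zero_comp (snake S hS n).L₀.zero _ h0 (snake S hS n).L₀_exact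
    (snake S hS n).L₁'_exact hz c₁ c₃ c₄

end Main

end K992.IndS
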